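import Groth.Agent.QC.Coherent
import Groth.Agent.QC.Closure
import Groth.Agent.QC.Support
import Groth.Agent.ModDesc.Iso
import Groth.Agent.CycK0.Basic
import Groth.Agent.CohFinite.RPushCoh
import Mathlib

/-!
The image of the limit of a Mittag-Leffler tower of coherent modules.
-/

set_option autoImplicit false
set_option linter.style.haveILetI false
set_option backward.isDefEq.respectTransparency false

universe u

open CategoryTheory CategoryTheory.Limits AlgebraicGeometry Opposite

noncomputable section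

namespace Groth.Agent.MLImage

variable {X : Scheme.{u}}

theorem exists_affine (x : X) : ∃ U : X.affineOpens, x ∈ U.1 := by
  obtain ⟨_, ⟨U, hU, rfl⟩, hx, -⟩ := X.isBasis_affineOpens.exists_subset_of_mem_open (Set.mem_univ x) isOpen_univ
  exact ⟨⟨U, hU⟩, hx⟩

/-- Images of maps of coherent modules are coherent. -/
theorem isCoh_image [IsLocallyNoetherian X] {M N : X.Modules} (hM : Coh.IsCoh M) (hN : Coh.IsCoh N) (f : M ⟶ N) :
    Coh.IsCoh (image f) :=
  CohFinite.isCoh_of_iso (Abelian.imageIsoImage f)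
    (Groth.Agent.QC.isCoh_kernel hN (Groth.Agent.QC.isCoh_cokernel hM.1 hN f).1 (cokernel.π f))

/-- A map factoring through the image of another has smaller range on affine opens. -/
theorem exists_eq_app [IsLocallyNoetherian X] {M M' N : X.Modules} (f : M ⟶ N) (f' : M' ⟶ N) (hM' : Coh.IsCoh M')
    (hN : Coh.IsCoh N) (h : imageSubobject f ≤ imageSubobject f') (U : X.affineOpens) (t : Γ(M, U.1)) :
    ∃ t' : Γ(M', U.1), f'.app U.1 t' = f.app U.1 t := by
  let u := factorThruImageSubobject f ≫ Subobject.ofLE _ _ h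
  haveI := (isCoh_image hM' hN f').1
  haveI : Epi (factorThruImage f') := inferInstance
  obtain ⟨t', ht'⟩ := Groth.Agent.QC.app_surjective_of_epi U.2 hM'.1 (isCoh_image hM' hN f').1 (factorThruImage f')
    ((u ≫ (imageSubobjectIso f').hom).app U.1 t)
  refine ⟨t', ?_⟩
  have h1 : f = (u ≫ (imageSubobjectIso f').hom) ≫ image.ι f' := by
    rw [Category.assoc, imageSubobject_arrow, Category.assoc, Subobject.ofLE_arrow, imageSubobject_arrow_comp]
  conv_rhs => rw [h1]
  conv_lhs => rw [← image.fac f']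
  exact congrArg ((image.ι f').app U.1) ht'

variable [IsLocallyNoetherian X] (G : ℕᵒᵖ ⥤ X.Modules) (hG : ∀ n : ℕᵒᵖ, Coh.IsCoh (G.obj n))
  (hML : ∀ e : ℕ, ∃ (d : ℕ) (hd : e ≤ d), ∀ (d' : ℕ) (hd' : d ≤ d'),
      imageSubobject (G.map (homOfLE (hd.trans hd')).op) = imageSubobject (G.map (homOfLE hd).op))

/-- The transition maps on sections. -/
abbrev tr (U : X.Opens) {n m : ℕ} (h : n ≤ m) : Γ(G.obj (op m), U) → Γ(G.obj (op n), U) :=
  fun t => (G.map (homOfLE h).op).app U t

theorem tr_tr (U : X.Opens) {n m l : ℕ} (h : n ≤ m) (h' : m ≤ l) (t : Γ(G.obj (op l), U)) :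
    tr G U h (tr G U h' t) = tr G U (h.trans h') t := by
  show ((G.map (homOfLE h').op) ≫ (G.map (homOfLE h).op)).app U t = _
  rw [← G.map_comp]
  rfl

/-- Stable sections: in the image from every later stage. -/
def Stable (U : X.Opens) (n : ℕ) (x : Γ(G.obj (op n), U)) : Prop :=
  ∀ m (h : n ≤ m), ∃ t, tr G U h t = x

include hG hML in
theorem exists_lift (U : X.affineOpens) (n : ℕ) (x : Γ(G.obj (op n), U.1)) (hx : Stable G U.1 n x) :
    ∃ y, Stable G U.1 (n + 1) y ∧ tr G U.1 (Nat.le_succ n) y = x := by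
  obtain ⟨d, hd, hst⟩ := hML (n + 1)
  obtain ⟨t, ht⟩ := hx d ((Nat.le_succ n).trans hd)
  refine ⟨tr G U.1 hd t, fun m h => ?_, (tr_tr G U.1 _ _ t).trans ht⟩
  obtain hm | hm := le_total d m
  · exact exists_eq_app (G.map (homOfLE hd).op) (G.map (homOfLE h).op) (hG _) (hG _) (hst m hm).ge U t
  · exact ⟨tr G U.1 hm t, tr_tr G U.1 _ _ t⟩

include hG hML in
theorem exists_limit_section (U : X.affineOpens) (e : ℕ) (x : Γ(G.obj (op e), U.1)) (hx : Stable G U.1 e x) :
    ∃ z : Γ(limit G, U.1), (limit.π G (op e)).app U.1 z = x := by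
  choose L hL hL' using exists_lift G hG hML U
  let y : ∀ j, {y : Γ(G.obj (op (e + j)), U.1) // Stable G U.1 (e + j) y} :=
    fun j => Nat.rec (motive := fun j => {y : Γ(G.obj (op (e + j)), U.1) // Stable G U.1 (e + j) y})
      ⟨x, hx⟩ (fun j y => ⟨L (e + j) y.1 y.2, hL (e + j) y.1 y.2⟩) j
  have hy : ∀ a b (h : a ≤ b), tr G U.1 (Nat.add_le_add_left h e) (y b).1 = (y a).1 := by
    intro a b h
    induction b, h using Nat.le_induction with
    | base => show (G.map (𝟙 _)).app U.1 _ = _; rw [G.map_id]; rfl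
    | succ b hb ih =>
      refine Eq.trans ?_ ih
      rw [← hL' (e + b) (y b).1 (y b).2, tr_tr]
      rfl
  let E := SheafOfModules.evaluation X.ringCatSheaf (op U.1)
  have hl := isLimitOfPreserves (E ⋙ CategoryTheory.forget _) (limit.isLimit G)
  obtain ⟨z, hz⟩ := (Types.isLimitEquivSections hl).surjective
    ⟨fun n => tr G U.1 (show n.unop ≤ e + n.unop by omega) (y n.unop).1, fun {a b} f => by
      show (G.map f).app U.1 _ = _
      have hba : b.unop ≤ a.unop := leOfHom f.unop
      rw [Subsingleton.elim f (homOfLE hba).op]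
      refine (tr_tr G U.1 hba _ _).trans ?_
      show _ = tr G U.1 (show b.unop ≤ e + b.unop by omega) (y b.unop).1
      rw [← hy b.unop a.unop hba, tr_tr]⟩
  refine ⟨z, ?_⟩
  refine (congrFun (congrArg Subtype.val hz) (op e)).trans ?_
  exact hy 0 e (Nat.zero_le e)

include hG hML in
theorem isClosed_support_image_limit (e : ℕ) : IsClosed (CohB1.support (image (limit.π G (op e)))) := by
  obtain ⟨d, hd, hst⟩ := hML e
  let f := G.map (homOfLE hd).op
  let g : limit G ⟶ image f := limit.π G (op d) ≫ factorThruImage f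
  have hI := isCoh_image (hG _) (hG _) f
  haveI := hI.1
  have hg : g ≫ image.ι f = limit.π G (op e) := by
    rw [Category.assoc, image.fac, limit.w]
  haveI : Epi g := by
    refine ModDesc.epi_of_affine_cover g (fun U : X.affineOpens => U.1) (fun U => U.2)
      exists_affine fun U s => ?_
    obtain ⟨t, rfl⟩ := Groth.Agent.QC.app_surjective_of_epi U.2 (hG _).1 hI.1 (factorThruImage f) s
    have hx : Stable G U.1 e (f.app U.1 t) := fun m h => by
      obtain hm | hm := le_total d m
      · exact exists_eq_app f (G.map (homOfLE h).op) (hG _) (hG _) (hst m hm).ge U t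
      · exact ⟨tr G U.1 hm t, tr_tr G U.1 _ _ t⟩
    obtain ⟨z, hz⟩ := exists_limit_section G hG hML U e _ hx
    refine ⟨z, Groth.Agent.QC.app_injective_of_mono (image.ι f) U.1 ?_⟩
    refine ((congrArg (fun φ : limit G ⟶ G.obj (op e) => φ.app U.1 z) hg).trans hz).trans ?_
    exact (congrArg (fun φ : G.obj (op d) ⟶ G.obj (op e) => φ.app U.1 t) (image.fac f)).symm
  haveI : StrongEpi g := strongEpi_of_epi g
  have hC : Coh.IsCoh (image (limit.π G (op e))) := CohFinite.isCoh_of_iso (image.isoStrongEpiMono g (image.ι f) hg) hI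
  haveI := hC.1
  exact Groth.Agent.QC.isClosed_support hC.2

end Groth.Agent.MLImage
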